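import Cfsg.Agent.Lib.StructB.HN2HS.Rep.Data
import Cfsg.Agent.Lib.StructB.HN2HS.P352.Data

/-!
The representation on 100 points: relators, and its image.
-/

set_option autoImplicit false
set_option maxRecDepth 100000
set_option Elab.async false

namespace CfsgLib.StructB.HN2HS.Rep

open CfsgLib.KnownA CfsgLib.KnownA.PermCert CfsgLib.KnownA.HSModel

theorem valid_letters : letters.all (valid 100) = true := by decide +kernel

theorem rels_ok :
    (P352.rels.all fun r => eqW 100 (r.map fun a => letters.getD a 0) []) = true := by
  decide +kernel

theorem evens_ok : (List.zip gens gensSwaps).all (fun p => evenOK p.1 p.2) = true ∧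
    gensSwaps.length = gens.length := by
  decide +kernel

theorem z_ok : (autOK (letters.getD 4 0) && swapsOK (letters.getD 4 0) zSwaps &&
    Nat.beq (zSwaps.length % 2) 1) = true := by
  decide +kernel

/-- The letters producing the even generators. -/
theorem gens_from :
    (gens.take 4 == letters.take 4) = true ∧
      eqW 100 [gens.getD 4 0] [letters.getD 4 0, letters.getD 2 0, letters.getD 4 0] = true ∧
      eqW 100 [gens.getD 5 0] [letters.getD 4 0, letters.getD 3 0, letters.getD 4 0] = true := by
  decide +kernel

/-- A successful run contains the transversals. -/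
def hasAll (r : Option (List ℕ)) (L : List (ℕ × List ℕ)) : Bool :=
  match r with
  | none => false
  | some F => L.all fun e => e.2.all fun c => F.any (Nat.beq c)

theorem hasAll_sound {r : Option (List ℕ)} {L : List (ℕ × List ℕ)} (h : hasAll r L = true) :
    ∃ F, r = some F ∧ ∀ e ∈ L, ∀ c ∈ e.2, F.any (Nat.beq c) = true := by
  cases r with
  | none => simp [hasAll] at h
  | some F =>
    exact ⟨F, rfl, fun e he c hc => List.all_eq_true.1 (List.all_eq_true.1 h e he) c hc⟩

theorem slp_ok : hasAll (slpRun 100 slpOps gens) chain = true := by decide +kernel

theorem chain_ok : chainOK 100 [] chain = true ∧ chainProd chain = 14784000 ∧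
    gens.all (valid 100) = true := by
  decide +kernel

end CfsgLib.StructB.HN2HS.Rep
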