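import Cfsg.Agent.Lib.StructB.HN2HS.Rep.Check
import Cfsg.Agent.Lib.StructB.HN2HS.Bound

/-!
The homomorphism onto the automorphism group of the Higman–Sims graph.
-/

set_option autoImplicit false
set_option maxRecDepth 100000

namespace CfsgLib.StructB.HN2HS.Rep

open CfsgLib.InvChar.Coset CfsgLib.KnownA CfsgLib.KnownA.PermCert CfsgLib.KnownA.HSModel

/-- The permutation of a letter. -/
noncomputable def pf (n : ℕ) : Equiv.Perm (Fin 100) := PermCert.permOf 100 (letters.getD n 0)

theorem valid_pf {n : ℕ} (h : n < 5) : valid 100 (letters.getD n 0) = true := by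
  rw [List.getD_eq_getElem _ _ (show n < letters.length from h)]
  exact List.all_eq_true.1 valid_letters _ (List.getElem_mem _)

theorem pf_wprod {r : List ℕ} (hr : r ∈ P352.rels) : wprod pf r = 1 := by
  have hlt : P352.rels.all (fun r => r.all fun x => Nat.blt x 5) = true := by decide +kernel
  simp only [List.all_eq_true, Nat.blt_eq] at hlt
  have h := List.all_eq_true.1 rels_ok r hr
  have hv : ∀ c ∈ r.map (fun a => letters.getD a 0), valid 100 c = true := by
    intro c hc
    obtain ⟨a, ha, rfl⟩ := List.mem_map.1 hc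
    exact valid_pf (hlt r hr a ha)
  have := (eqW_iff hv (by simp)).1 h
  rw [prodW, List.map_map] at this
  exact this

theorem pf_one : pf 1 = (pf 0)⁻¹ :=
  eq_inv_of_mul_eq_one_right (by simpa [wprod] using pf_wprod (r := [0, 1]) (by decide +kernel))

theorem pf_three : pf 3 = (pf 2)⁻¹ :=
  eq_inv_of_mul_eq_one_right (by simpa [wprod] using pf_wprod (r := [2, 3]) (by decide +kernel))

/-- The images of the three generators. -/
noncomputable def gf : Fin 3 → Equiv.Perm (Fin 100) := ![pf 0, pf 2, pf 4]

theorem lift_fs {n : ℕ} (h : n < 5) : FreeGroup.lift gf (fs n) = pf n := by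
  interval_cases n <;> simp [fs, gf, pf_one, pf_three]

theorem gf_rel : ∀ w ∈ rel, FreeGroup.lift gf w = 1 := by
  rintro _ ⟨r, hr, rfl⟩
  have hlt : P352.rels.all (fun r => r.all fun x => Nat.blt x 5) = true := by decide +kernel
  simp only [List.all_eq_true, Nat.blt_eq] at hlt
  rw [map_wprod _ fs pf r fun x hx => lift_fs (hlt r hr x hx)]
  exact pf_wprod hr

/-- The action on the hundred points. -/
noncomputable def phi : P →* Equiv.Perm (Fin 100) := PresentedGroup.toGroup gf_rel

theorem phi_s {n : ℕ} (h : n < 5) : phi (s n) = pf n := by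
  show FreeGroup.lift gf (fs n) = _
  exact lift_fs h

theorem gens_even {c : ℕ} (h : c ∈ gens) : permOf 100 c ∈ hsPermGroup := by
  obtain ⟨h1, h2⟩ := evens_ok
  obtain ⟨i, hi, rfl⟩ := List.getElem_of_mem h
  have hz : i < (List.zip gens gensSwaps).length := by rw [List.length_zip, h2, min_self]; exact hi
  have := List.all_eq_true.1 h1 _ (List.getElem_mem hz)
  rw [List.getElem_zip] at this
  exact mem_of_evenOK this

theorem simple : IsSimpleGroup hsPermGroup := by
  have := CfsgLib.Golay.isSimple_hsGroup
  exact hsGroupEquiv.symm.isSimpleGroup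

/-- The entries of the program lie in the group of the generators. -/
theorem slp_mem {F : List ℕ} (hF : slpRun 100 slpOps gens = some F) {c : ℕ}
    (hc : F.any (Nat.beq c) = true) : permOf 100 c ∈ genGroup 100 gens := by
  obtain ⟨d, hd, hcd⟩ := List.any_eq_true.1 hc
  rw [Nat.eq_of_beq_eq_true hcd]
  exact (slpRun_sound (genGroup 100 gens)
    (fun c hc => ⟨List.all_eq_true.1 chain_ok.2.2 c hc, mem_genGroup hc⟩) hF d hd).2

theorem chain_mem : ∀ e ∈ chain, ∀ c ∈ e.2, permOf 100 c ∈ genGroup 100 gens := by
  obtain ⟨F, hF, hall⟩ := hasAll_sound slp_ok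
  exact fun e he c hc => slp_mem hF (hall e he c hc)

theorem gens_eq : genGroup 100 gens = hsPermGroup := by
  have hle : genGroup 100 gens ≤ hsPermGroup := genGroup_le fun c hc => gens_even hc
  have hmem := chain_mem
  have hlow : 14784000 ≤ Nat.card (genGroup 100 gens) := by
    obtain ⟨h1, h2, -⟩ := chain_ok
    rw [← h2]
    exact card_ge_chain _ h1 hmem _ (fun σ => by simp)
  have := simple
  set K := (genGroup 100 gens).subgroupOf hsPermGroup with hK
  have hcK : Nat.card K = Nat.card (genGroup 100 gens) :=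
    Nat.card_congr (Subgroup.subgroupOfEquivOfLe hle).toEquiv
  have hmul := K.card_mul_index
  rw [hcK, card_hsPermGroup] at hmul
  have hidx : K.index ≤ 3 := by nlinarith
  refine le_antisymm hle (Subgroup.subgroupOf_eq_top.1 ?_)
  by_contra hne
  have hcore : K.normalCore = ⊥ :=
    (K.normalCore_normal.eq_bot_or_eq_top).resolve_right fun h =>
      hne (top_le_iff.1 (h ▸ K.normalCore_le))
  have hinj : Function.Injective (MulAction.toPermHom hsPermGroup (hsPermGroup ⧸ K)) := by
    rw [← MonoidHom.ker_eq_bot_iff, ← Subgroup.normalCore_eq_ker, hcore]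
  have h1 := Nat.card_le_card_of_injective _ hinj
  rw [Nat.card_perm, card_hsPermGroup] at h1
  have h2 : (Nat.card (hsPermGroup ⧸ K)).factorial ≤ (3).factorial := Nat.factorial_le hidx
  norm_num at h2
  omega

theorem pf_zyz {a b : ℕ} (hb : b < 5) (ha : valid 100 (gens.getD a 0) = true)
    (h : eqW 100 [gens.getD a 0] [letters.getD 4 0, letters.getD b 0, letters.getD 4 0] = true) :
    permOf 100 (gens.getD a 0) = pf 4 * pf b * pf 4 := by
  have := (eqW_iff (L := [gens.getD a 0]) (L' := [letters.getD 4 0, letters.getD b 0, letters.getD 4 0])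
    (List.forall_mem_singleton.2 ha)
    (by
      intro c hc
      simp only [List.mem_cons, List.not_mem_nil, or_false] at hc
      rcases hc with rfl | rfl | rfl
      · exact valid_pf (by omega)
      · exact valid_pf hb
      · exact valid_pf (by omega))).1 h
  simpa [prodW, pf, mul_assoc] using this

/-- The images of the six even generators. -/
theorem gens_set : {σ | ∃ c ∈ gens, σ = permOf 100 c} =
    {pf 0, pf 1, pf 2, pf 3, pf 4 * pf 2 * pf 4, pf 4 * pf 3 * pf 4} := by
  obtain ⟨-, hw, hW⟩ := gens_from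
  have hl : gens = [letters.getD 0 0, letters.getD 1 0, letters.getD 2 0, letters.getD 3 0,
      gens.getD 4 0, gens.getD 5 0] := by decide +kernel
  have v4 : valid 100 (gens.getD 4 0) = true := by decide +kernel
  have v5 : valid 100 (gens.getD 5 0) = true := by decide +kernel
  rw [← pf_zyz (by omega) v4 hw, ← pf_zyz (by omega) v5 hW]
  ext σ
  rw [Set.mem_setOf_eq, hl]
  simp [pf, ← hl]

theorem sign_z : Equiv.Perm.sign (pf 4) = -1 := by
  have h := z_ok
  simp only [Bool.and_eq_true] at h
  obtain ⟨⟨-, hs⟩, hp⟩ := h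
  exact (sign_of_swaps hs).trans (Nat.odd_iff.2 (Nat.eq_of_beq_eq_true hp)).neg_one_pow

theorem even_sign {σ : Equiv.Perm (Fin 100)} (h : σ ∈ hsPermGroup) : Equiv.Perm.sign σ = 1 :=
  Equiv.Perm.mem_alternatingGroup.1 (range_even h)

/-- The checks for the centraliser of the group. -/
def centOK : Bool :=
  (List.range 99).all (fun j => level1.any fun c => valid 100 c && Nat.beq (pimg c 0) 0 &&
    !Nat.beq (pimg c (j + 1)) (j + 1)) &&
  (List.range 100).all (fun i => level0.any fun c => valid 100 c && Nat.beq (pimg c 0) i)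

theorem cent_ok : centOK = true := by decide +kernel

theorem transversal_mem {c : ℕ} (h : c ∈ level0 ∨ c ∈ level1) : permOf 100 c ∈ hsPermGroup := by
  rw [← gens_eq]
  rcases h with h | h
  · exact chain_mem (0, level0) (List.mem_cons_self ..) c h
  · exact chain_mem (23, level1) (List.mem_cons_of_mem _ (List.mem_cons_self ..)) c h

/-- Only the identity commutes with the group. -/
theorem cent_trivial {f : Equiv.Perm (Fin 100)} (hf : ∀ σ ∈ hsPermGroup, σ * f = f * σ) : f = 1 := by
  have h := cent_ok
  simp only [centOK, Bool.and_eq_true, List.all_eq_true, List.mem_range, List.any_eq_true] at h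
  obtain ⟨h1, h0⟩ := h
  have f0 : f 0 = 0 := by
    by_contra hne
    have hne' : ((f 0 : Fin 100) : ℕ) ≠ 0 := fun e => hne (Fin.ext e)
    obtain ⟨c, hc, ⟨hv, hfix⟩, hmv⟩ := h1 ((f 0 : ℕ) - 1) (by omega)
    rw [Nat.sub_add_cancel (by omega)] at hmv
    have e := congrArg (fun σ : Equiv.Perm (Fin 100) => ((σ 0 : Fin 100) : ℕ))
      (hf _ (transversal_mem (Or.inr hc)))
    simp only [Equiv.Perm.mul_apply] at e
    have hz : permOf 100 c 0 = 0 := Fin.ext (by
      rw [permOf_val hv]
      exact Nat.eq_of_beq_eq_true hfix)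
    rw [hz, permOf_val hv] at e
    rw [e, Nat.beq_refl] at hmv
    exact absurd hmv (by decide)
  ext i
  obtain ⟨c, hc, hv, hi⟩ := h0 i i.2
  have hci : permOf 100 c 0 = i := Fin.ext (by
    rw [permOf_val hv]
    exact Nat.eq_of_beq_eq_true hi)
  have e := congrArg (fun σ : Equiv.Perm (Fin 100) => σ 0) (hf _ (transversal_mem (Or.inl hc)))
  simp only [Equiv.Perm.mul_apply, f0, hci] at e
  rw [← e]
  rfl

theorem xx_one : pf 0 * pf 0 = 1 := by
  have h : eqW 100 [letters.getD 0 0, letters.getD 0 0] [] = true := by decide +kernel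
  simpa [prodW, pf] using (eqW_iff (L := [letters.getD 0 0, letters.getD 0 0]) (L' := [])
    (by
      intro c hc
      simp only [List.mem_cons, List.not_mem_nil, or_false, or_self] at hc
      rw [hc]
      exact valid_pf (by omega)) (by simp)).1 h

end CfsgLib.StructB.HN2HS.Rep
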